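import Mathlib.AlgebraicGeometry.Morphisms.Etale
import Mathlib.AlgebraicGeometry.Morphisms.SchemeTheoreticallyDominant
import Mathlib.AlgebraicGeometry.Morphisms.UniversallyOpen
import Mathlib.RingTheory.Ideal.AssociatedPrime.Localization
import Groth.Agent.DvrLenLib.Stalks
import Groth.Agent.UnibFlatLib.Basic
import Groth.Agent.QCohLib.QCoh
import Groth.Agent.AssTensLib.Basic
import Groth.Agent.BiratFPLib.Birational
import Groth.Agent.FibDegLib.Weight

/-! # Scheme-theoretic dominance of flat morphisms via associated points -/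

set_option autoImplicit false
set_option backward.isDefEq.respectTransparency false
set_option backward.isDefEq.respectTransparency.types false
universe u
open CategoryTheory AlgebraicGeometry IsLocalRing TopologicalSpace TensorProduct

namespace SdAssLib

theorem ass_affine {X : Scheme.{u}} [IsLocallyNoetherian X] {U : X.Opens} (hU : IsAffineOpen U) {x : X} (hx : x ∈ U) :
    x ∈ AssSch.Ass (Coh.structureModule X) ↔
      (hU.primeIdealOf ⟨x, hx⟩).asIdeal ∈ associatedPrimes Γ(X, U) Γ(X, U) := by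
  haveI : IsNoetherianRing Γ(X, U) := IsLocallyNoetherian.component_noetherian ⟨U, hU⟩
  letI := X.presheaf.algebra_section_stalk (⟨x, hx⟩ : U)
  haveI := hU.isLocalization_stalk ⟨x, hx⟩
  rw [AssTensLib.ass_structure_iff]
  have hc : (maximalIdeal (X.presheaf.stalk x)).comap (algebraMap Γ(X, U) (X.presheaf.stalk x)) =
      (hU.primeIdealOf ⟨x, hx⟩).asIdeal :=
    IsLocalization.AtPrime.under_maximalIdeal (X.presheaf.stalk x) (hU.primeIdealOf ⟨x, hx⟩).asIdeal
  haveI : IsLocalizedModule (hU.primeIdealOf ⟨x, hx⟩).asIdeal.primeCompl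
      (Algebra.linearMap Γ(X, U) (X.presheaf.stalk x)) :=
    (isLocalizedModule_iff_isLocalization' _ _).mpr inferInstance
  have h := Module.associatedPrimes.preimage_comap_associatedPrimes_eq_associatedPrimes_of_isLocalizedModule
    (R' := X.presheaf.stalk x)
    (hU.primeIdealOf ⟨x, hx⟩).asIdeal.primeCompl (Algebra.linearMap Γ(X, U) (X.presheaf.stalk x))
  rw [← hc]
  exact (Set.ext_iff.1 h _).symm

theorem dom_iff {X E : Scheme.{u}} [IsLocallyNoetherian E] (u : X ⟶ E) [Flat u] :
    IsSchemeTheoreticallyDominant u ↔ ∀ e ∈ AssSch.Ass (Coh.structureModule E), e ∈ Set.range u := by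
  constructor
  · intro hu e he
    by_contra hne
    have hZ : ∀ x : X, u x ∉ closure {e} := fun x hx => hne (by
      obtain ⟨x', -, hx'⟩ := Flat.generalizingMap u (specializes_iff_mem_closure.2 hx)
      exact ⟨x', hx'⟩)
    let W : E.Opens := ⟨(closure {e})ᶜ, isClosed_closure.isOpen_compl⟩
    have hrange : Set.range u ⊆ Set.range W.ι := by
      rw [Scheme.Opens.range_ι]
      rintro _ ⟨x, rfl⟩
      exact hZ x
    haveI hW : IsSchemeTheoreticallyDominant W.ι := ⟨eq_bot_iff.2 (by
      rw [← hu.ker_eq_bot, ← IsOpenImmersion.lift_fac W.ι u hrange]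
      exact Scheme.Hom.le_ker_comp _ _)⟩
    obtain ⟨U, hU, heU, -⟩ := exists_isAffineOpen_mem_and_subset (x := e) (U := ⊤) (by trivial)
    haveI : IsNoetherianRing Γ(E, U) := IsLocallyNoetherian.component_noetherian ⟨U, hU⟩
    obtain ⟨hp, a, ha⟩ := isAssociatedPrime_iff.1 ((ass_affine hU heU).1 he)
    have hzero : a = 0 := by
      refine W.ι.app_injective U ?_
      rw [map_zero]
      refine W.toScheme.IsSheaf.section_ext fun w hw => ?_
      have hwU : W.ι w ∈ U := hw
      have hwW : W.ι w ∉ closure {e} := w.2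
      have hnle : ¬ (hU.primeIdealOf ⟨e, heU⟩).asIdeal ≤ (hU.primeIdealOf ⟨W.ι w, hwU⟩).asIdeal := fun hle => hwW (by
        rw [← specializes_iff_mem_closure]
        have := ((PrimeSpectrum.le_iff_specializes _ _).1 hle).map hU.fromSpec.continuous
        rwa [hU.fromSpec_primeIdealOf, hU.fromSpec_primeIdealOf] at this)
      obtain ⟨g, hg, hg'⟩ := SetLike.not_le_iff_exists.1 hnle
      have hgD : W.ι w ∈ E.basicOpen g := by
        have e1 : hU.fromSpec (hU.primeIdealOf ⟨W.ι w, hwU⟩) = W.ι w := hU.fromSpec_primeIdealOf _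
        rw [← e1, ← Scheme.Hom.mem_preimage, hU.fromSpec_preimage_basicOpen]
        exact hg'
      refine ⟨W.ι ⁻¹ᵁ E.basicOpen g, fun v hv => E.basicOpen_le g hv, hgD, ?_⟩
      have hga : g * a = 0 := by
        rw [ha, Submodule.mem_colon_singleton, Submodule.mem_bot] at hg
        exact hg
      have hu' : IsUnit (E.presheaf.map (homOfLE (E.basicOpen_le g)).op g) :=
        RingedSpace.isUnit_res_basicOpen _ g
      have h0 : E.presheaf.map (homOfLE (E.basicOpen_le g)).op a = 0 := by
        have := congrArg (E.presheaf.map (homOfLE (E.basicOpen_le g)).op) hga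
        rw [map_mul, map_zero] at this
        exact hu'.mul_right_eq_zero.1 this
      rw [map_zero]
      have hn := ConcreteCategory.congr_hom (W.ι.naturality (homOfLE (E.basicOpen_le g)).op) a
      simp only [ConcreteCategory.comp_apply] at hn
      rw [h0, map_zero] at hn
      exact hn.symm
    rw [hzero] at ha
    exact hp.ne_top (ha.trans ((Ideal.eq_top_iff_one _).2 (by simp [Submodule.mem_colon_singleton])))
  · intro h
    refine ⟨eq_bot_iff.2 fun U a ha => ?_⟩
    by_contra hne
    have ha' : u.app U.1 a = 0 := Scheme.Hom.ideal_ker_le u U ha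
    haveI : IsNoetherianRing Γ(E, U.1) := IsLocallyNoetherian.component_noetherian U
    have ha0 : a ≠ 0 := fun h0 => hne (by rw [h0]; exact zero_mem _)
    obtain ⟨P, hP, hle⟩ := exists_le_isAssociatedPrime_of_isNoetherianRing Γ(E, U.1) a ha0
    let p : PrimeSpectrum Γ(E, U.1) := ⟨P, hP.isPrime⟩
    let e : E := U.2.fromSpec p
    have heU : e ∈ U.1 := by
      rw [← SetLike.mem_coe, ← U.2.range_fromSpec]; exact ⟨p, rfl⟩
    have hpe : U.2.primeIdealOf ⟨e, heU⟩ = p :=
      U.2.fromSpec.isOpenEmbedding.injective (U.2.fromSpec_primeIdealOf _)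
    obtain ⟨x, hx⟩ := h e ((ass_affine U.2 heU).2 (by rw [hpe]; exact hP))
    have hxU : u x ∈ U.1 := hx ▸ heU
    have hpx : U.2.primeIdealOf ⟨u x, hxU⟩ = p :=
      U.2.fromSpec.isOpenEmbedding.injective ((U.2.fromSpec_primeIdealOf _).trans hx)
    letI := E.presheaf.algebra_section_stalk (⟨u x, hxU⟩ : U.1)
    haveI := U.2.isLocalization_stalk ⟨u x, hxU⟩
    letI : Algebra (E.presheaf.stalk (u x)) (X.presheaf.stalk x) := (u.stalkMap x).hom.toAlgebra
    haveI : IsLocalHom (algebraMap (E.presheaf.stalk (u x)) (X.presheaf.stalk x)) :=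
      inferInstanceAs (IsLocalHom (u.stalkMap x).hom)
    haveI : Module.Flat (E.presheaf.stalk (u x)) (X.presheaf.stalk x) := Flat.stalkMap u x
    haveI : Module.FaithfullyFlat (E.presheaf.stalk (u x)) (X.presheaf.stalk x) :=
      Module.FaithfullyFlat.of_flat_of_isLocalHom
    have hz : algebraMap (E.presheaf.stalk (u x)) (X.presheaf.stalk x) (E.presheaf.germ U.1 (u x) hxU a) = 0 := by
      show u.stalkMap x _ = 0
      rw [Scheme.Hom.germ_stalkMap_apply, ha', map_zero]
    have hg0 : algebraMap Γ(E, U.1) (E.presheaf.stalk (u x)) a = 0 :=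
      (FaithfulSMul.algebraMap_injective (E.presheaf.stalk (u x)) (X.presheaf.stalk x)) (hz.trans (map_zero _).symm)
    obtain ⟨⟨s, hs⟩, hsa⟩ :=
      (IsLocalization.map_eq_zero_iff (U.2.primeIdealOf ⟨u x, hxU⟩).asIdeal.primeCompl _ a).1 hg0
    rw [hpx] at hs
    exact hs (hle (by simpa [Submodule.mem_colon_singleton] using hsa))

theorem ass_of_minimal {S : Scheme.{u}} [IsLocallyNoetherian S] {s : S} (h : ∀ t : S, t ⤳ s → t = s) :
    s ∈ AssSch.Ass (Coh.structureModule S) := by
  haveI : Coh.IsQCoh (Coh.structureModule S) := QCohLib.isQCoh_unit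
  refine DvrLenLib.mem_ass_of_max _ (UnibFlatLib.isFT_unit S) ?_ fun w _ hw => h w hw
  exact not_subsingleton_iff_nontrivial.2 (CurvLib.stalkStructureEquiv s).toEquiv.nontrivial

theorem ass_iff_min_or_emb {S : Scheme.{u}} [IsLocallyNoetherian S] (s : S) :
    s ∈ AssSch.Ass (Coh.structureModule S) ↔ (∀ t : S, t ⤳ s → t = s) ∨
      (s ∈ AssSch.Ass (Coh.structureModule S) ∧ ∃ t ∈ AssSch.Ass (Coh.structureModule S), t ⤳ s ∧ t ≠ s) := by
  refine ⟨fun hs => or_iff_not_imp_left.2 fun hn => ?_, fun h => h.elim ass_of_minimal And.left⟩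
  push Not at hn
  obtain ⟨w, hw, hws⟩ := hn
  obtain ⟨x, hx, hxw⟩ := BiratFPLib.exists_genPts_specializes w
  refine ⟨hs, x, ass_of_minimal fun t ht => BiratFPLib.genPts_eq_of_specializes hx ht, hxw.trans hw, ?_⟩
  rintro rfl
  exact hws (hw.antisymm hxw).eq

theorem ass_etale {E S : Scheme.{u}} [IsLocallyNoetherian S] (g : E ⟶ S) [Etale g] (e : E) :
    e ∈ AssSch.Ass (Coh.structureModule E) ↔ g e ∈ AssSch.Ass (Coh.structureModule S) := by
  rw [AssTensLib.ass_structure_iff, AssTensLib.ass_structure_iff]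
  letI : Algebra (S.presheaf.stalk (g e)) (E.presheaf.stalk e) := (g.stalkMap e).hom.toAlgebra
  haveI : IsLocalHom (algebraMap (S.presheaf.stalk (g e)) (E.presheaf.stalk e)) :=
    inferInstanceAs (IsLocalHom (g.stalkMap e).hom)
  haveI : Module.Flat (S.presheaf.stalk (g e)) (E.presheaf.stalk e) := Flat.stalkMap g e
  refine ((Set.ext_iff.1 (LinearEquiv.AssociatedPrimes.eq
      (AlgebraTensorModule.rid (S.presheaf.stalk (g e)) (E.presheaf.stalk e) (E.presheaf.stalk e))) _).symm).trans
    ((AssTensLib.ass_tensor_iff (E.presheaf.stalk e) (S.presheaf.stalk (g e))).trans (and_iff_left ?_))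
  have hm := FibDegLib.map_maximalIdeal_of_etale g e
  have hk : IsAssociatedPrime (maximalIdeal (E.presheaf.stalk e))
      (E.presheaf.stalk e ⧸ maximalIdeal (E.presheaf.stalk e)) := by
    refine ⟨inferInstance, 1, ?_⟩
    rw [show (⊥ : Submodule (E.presheaf.stalk e) (E.presheaf.stalk e ⧸ maximalIdeal (E.presheaf.stalk e))).colon
        {(1 : E.presheaf.stalk e ⧸ maximalIdeal (E.presheaf.stalk e))} = maximalIdeal (E.presheaf.stalk e) from ?_,
      (Ideal.IsPrime.radical inferInstance)]
    ext r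
    rw [Submodule.mem_colon_singleton, Submodule.mem_bot, Algebra.smul_def, mul_one,
      Ideal.Quotient.algebraMap_eq, Ideal.Quotient.eq_zero_iff_mem]
  refine (Set.ext_iff.1 (LinearEquiv.AssociatedPrimes.eq (Submodule.quotEquivOfEq _ _ ?_)) _).2 hk
  show (maximalIdeal (S.presheaf.stalk (g e))).map (g.stalkMap e).hom • ⊤ = _
  rw [hm, smul_eq_mul, Ideal.mul_top]

theorem flat_of_etale_comp {X E S : Scheme.{u}} (u : X ⟶ E) (g : E ⟶ S) [Etale g] [Flat (u ≫ g)] : Flat u := by
  haveI : MorphismProperty.HasOfPostcompProperty @Flat @Etale := by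
    rw [MorphismProperty.hasOfPostcompProperty_iff_le_diagonal]
    intro A B f hf
    haveI := hf
    exact inferInstanceAs <| Flat (Limits.pullback.diagonal f)
  exact MorphismProperty.of_postcomp (W' := @Etale) @Flat u g ‹_› ‹_›

end SdAssLib
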